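import Groth.Agent.E4O.DvrDom
import Mathlib.AlgebraicGeometry.EllipticCurve.IsomOfJ
import Mathlib.AlgebraicGeometry.EllipticCurve.Reduction
import Mathlib.FieldTheory.IsAlgClosed.AlgebraicClosure
import Mathlib.FieldTheory.IntermediateField.Adjoin.Basic
import Mathlib.Tactic.ComputeDegree

/-! Integral `j`-invariant and potential good reduction. -/

set_option autoImplicit false

universe u

open Polynomial

namespace Groth.Agent.PotGood31

/-- An integral family with prescribed `j`-invariant and nowhere vanishing discriminant. -/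
theorem exists_family {R : Type u} [CommRing R] [IsLocalRing R] (j₀ : R) :
    ∃ (p : R[X]) (E : WeierstrassCurve R[X]), p.Monic ∧ p.natDegree ≠ 0 ∧
      ∀ (S : Type u) [Field S] (φ : R →+* S) (x : S), p.eval₂ φ x = 0 →
        (E.map (eval₂RingHom φ x)).Δ ≠ 0 ∧
          (E.map (eval₂RingHom φ x)).c₄ ^ 3 = φ j₀ * (E.map (eval₂RingHom φ x)).Δ := by
  by_cases h2 : IsUnit (2 : R)
  · obtain ⟨v, hv⟩ := h2.pow 8
    let e : R := j₀ * ↑v⁻¹
    refine ⟨(X ^ 2 - X + 1) ^ 3 - C e * (X * (X - 1)) ^ 2, ⟨0, -(1 + X), 0, X, 0⟩, ?_, ?_,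
      fun S _ φ x hx => ?_⟩
    · monicity!
    · have h : ((X ^ 2 - X + 1) ^ 3 - C e * (X * (X - 1)) ^ 2 : R[X]).natDegree = 6 := by compute_degree!
      omega
    · have hS : (2 : S) ≠ 0 := by
        have := (h2.map φ).ne_zero
        rwa [map_ofNat] at this
      simp only [eval₂_sub, eval₂_pow, eval₂_add, eval₂_X, eval₂_one, eval₂_mul, eval₂_C] at hx
      have hj : φ e * 256 = φ j₀ := by
        rw [show (256 : S) = φ (v : R) by rw [hv, map_pow, map_ofNat]; norm_num, ← map_mul]
        simp [e]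
      have hE : (WeierstrassCurve.mk (0 : R[X]) (-(1 + X)) 0 X 0).map (eval₂RingHom φ x) =
          ⟨0, -(1 + x), 0, x, 0⟩ := by ext <;> simp
      have hΔ : (WeierstrassCurve.mk (0 : S) (-(1 + x)) 0 x 0).Δ = 16 * (x * (x - 1)) ^ 2 := by
        simp only [WeierstrassCurve.Δ, WeierstrassCurve.b₂, WeierstrassCurve.b₄, WeierstrassCurve.b₆,
          WeierstrassCurve.b₈]
        ring
      have hc : (WeierstrassCurve.mk (0 : S) (-(1 + x)) 0 x 0).c₄ = 16 * (x ^ 2 - x + 1) := by
        simp only [WeierstrassCurve.c₄, WeierstrassCurve.b₂, WeierstrassCurve.b₄]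
        ring
      rw [hE, hΔ, hc]
      refine ⟨mul_ne_zero ?_ (pow_ne_zero _ fun h0 => ?_), ?_⟩
      · rw [show (16 : S) = 2 ^ 4 by norm_num]
        exact pow_ne_zero _ hS
      · rw [show x ^ 2 - x + 1 = x * (x - 1) + 1 by ring, h0] at hx
        simp at hx
      · linear_combination (4096 : S) * hx + (16 * (x * (x - 1)) ^ 2) * hj
  · have h3 : IsUnit (3 : R) := by
      refine (IsLocalRing.isUnit_or_isUnit_of_add_one (a := 3) (b := -2) (by norm_num)).resolve_right ?_
      rwa [IsUnit.neg_iff]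
    refine ⟨X ^ 3 * (X ^ 3 - C 24) ^ 3 - C j₀ * (X ^ 3 - C 27), ⟨X, 0, 1, 0, 0⟩, ?_, ?_,
      fun S _ φ x hx => ?_⟩
    · monicity!
    · have h : (X ^ 3 * (X ^ 3 - C 24) ^ 3 - C j₀ * (X ^ 3 - C 27) : R[X]).natDegree = 12 := by
        compute_degree!
      omega
    · have hS : (3 : S) ≠ 0 := by
        have := (h3.map φ).ne_zero
        rwa [map_ofNat] at this
      simp only [eval₂_sub, eval₂_pow, eval₂_X, eval₂_mul, eval₂_C, map_ofNat, eval₂_ofNat] at hx
      have hE : (WeierstrassCurve.mk (X : R[X]) 0 1 0 0).map (eval₂RingHom φ x) = ⟨x, 0, 1, 0, 0⟩ := by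
        ext <;> simp
      have hΔ : (WeierstrassCurve.mk x 0 (1 : S) 0 0).Δ = x ^ 3 - 27 := by
        simp only [WeierstrassCurve.Δ, WeierstrassCurve.b₂, WeierstrassCurve.b₄, WeierstrassCurve.b₆,
          WeierstrassCurve.b₈]
        ring
      have hc : (WeierstrassCurve.mk x 0 (1 : S) 0 0).c₄ = x * (x ^ 3 - 24) := by
        simp only [WeierstrassCurve.c₄, WeierstrassCurve.b₂, WeierstrassCurve.b₄]
        ring
      rw [hE, hΔ, hc]
      refine ⟨fun h0 => ?_, by linear_combination hx⟩
      rw [h0, mul_zero, sub_zero, sub_eq_zero.1 h0] at hx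
      have h729 : (3 : S) ^ 6 = 0 := by linear_combination hx
      exact hS (pow_eq_zero_iff (by norm_num) |>.1 h729)

variable {R : Type u} [CommRing R] [IsDomain R] [IsDiscreteValuationRing R]
    {K : Type u} [Field K] [Algebra R K] [IsFractionRing R K] (W : WeierstrassCurve K) [W.IsElliptic]

theorem j_mul_Δ {F : Type*} [CommRing F] (E : WeierstrassCurve F) [E.IsElliptic] : E.j * E.Δ = E.c₄ ^ 3 := by
  rw [WeierstrassCurve.j, ← E.coe_Δ', mul_right_comm, Units.inv_mul, one_mul]

open IsDedekindDomain.HeightOneSpectrum in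
theorem hasGoodReduction_minimal {L : Type u} [Field L] {S : Type u} [CommRing S] [IsDomain S]
    [IsDiscreteValuationRing S] [Algebra S L] [IsFractionRing S L] (E : WeierstrassCurve L)
    (C : WeierstrassCurve.VariableChange L) (E₀ : WeierstrassCurve S) (hC : C • E = E₀.map (algebraMap S L))
    (hu : IsUnit E₀.Δ) : (E.minimal S).HasGoodReduction S := by
  let C₁ := (E.exists_isMinimal S).choose
  let M := E.minimal S
  have hM : WeierstrassCurve.IsMinimal S M := inferInstanceAs (WeierstrassCurve.IsMinimal S (E.minimal S))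
  have hMC : (C * C₁⁻¹) • M = E₀.map (algebraMap S L) := by
    show (C * C₁⁻¹) • (C₁ • E) = _
    rw [← mul_smul, inv_mul_cancel_right, hC]
  have hint' : WeierstrassCurve.IsIntegral S ((C * C₁⁻¹) • M) := ⟨⟨E₀, hMC⟩⟩
  have h1 : valuation L (IsDiscreteValuationRing.maximalIdeal S) ((C * C₁⁻¹) • M).Δ = 1 := by
    rw [hMC, WeierstrassCurve.map_Δ, valuation_of_algebraMap, intValuation_eq_one_iff]
    exact fun h => (IsLocalRing.mem_maximalIdeal _).1 h hu
  have hint1 : WeierstrassCurve.IsIntegral S ((1 : WeierstrassCurve.VariableChange L) • M) := by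
    rw [one_smul]; infer_instance
  have hle := hM.val_Δ_maximal.2 (j := C * C₁⁻¹) hint'
  have key : ∀ (N : WeierstrassCurve L) [WeierstrassCurve.IsIntegral S N],
      valuation L (IsDiscreteValuationRing.maximalIdeal S) N.Δ ≤ 1 := fun N _ => by
    rw [← WeierstrassCurve.valuation_Δ_aux_eq_of_isIntegral S N]
    exact (WeierstrassCurve.valuation_Δ_aux S N).2
  have hlow : (WeierstrassCurve.valuation_Δ_aux S ((1 : WeierstrassCurve.VariableChange L) • M)) ≤
      WeierstrassCurve.valuation_Δ_aux S ((C * C₁⁻¹) • M) := by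
    rw [← Subtype.coe_le_coe, WeierstrassCurve.valuation_Δ_aux_eq_of_isIntegral S ((C * C₁⁻¹) • M), h1]
    exact (WeierstrassCurve.valuation_Δ_aux S _).2
  have h3 := hle hlow
  rw [← Subtype.coe_le_coe, WeierstrassCurve.valuation_Δ_aux_eq_of_isIntegral S ((C * C₁⁻¹) • M), h1,
    WeierstrassCurve.valuation_Δ_aux_eq_of_isIntegral S ((1 : WeierstrassCurve.VariableChange L) • M)] at h3
  rw [one_smul] at h3
  exact { hM with goodReduction := le_antisymm (key M) h3 }

theorem exists_good_of_integral (j₀ : R) (hj : algebraMap R K j₀ = W.j) :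
    ∃ (L : Type u) (_ : Field L) (_ : Algebra K L) (_ : FiniteDimensional K L) (RL : Type u)
      (_ : CommRing RL) (_ : IsDomain RL) (_ : IsDiscreteValuationRing RL) (_ : Algebra RL L)
      (_ : IsFractionRing RL L) (φ : R →+* RL), IsLocalHom φ ∧
      (∀ r : R, algebraMap K L (algebraMap R K r) = algebraMap RL L (φ r)) ∧
      ((W.baseChange L).minimal RL).HasGoodReduction RL := by
  classical
  obtain ⟨p, E, hp, hpdeg, hE⟩ := exists_family j₀
  let Ω := AlgebraicClosure K
  let ι : R →+* Ω := (algebraMap K Ω).comp (algebraMap R K)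
  obtain ⟨θ, hθ⟩ : ∃ θ : Ω, p.eval₂ ι θ = 0 := by
    obtain ⟨θ, hθ⟩ := IsAlgClosed.exists_root (p.map ι) (fun h => hpdeg (by
      rw [← natDegree_map_eq_of_injective (f := ι) (fun a b h' => IsFractionRing.injective R K
        ((algebraMap K Ω).injective h')) p]
      exact natDegree_eq_zero_iff_degree_le_zero.2 h.le))
    exact ⟨θ, by rwa [IsRoot.def, eval_map] at hθ⟩
  let E₁ := E.map (eval₂RingHom ι θ)
  obtain ⟨hΔ, hc⟩ := hE Ω ι θ hθ
  haveI : E₁.IsElliptic := ⟨isUnit_iff_ne_zero.2 hΔ⟩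
  haveI : (W.map (algebraMap K Ω)).IsElliptic := inferInstance
  have hjeq : (W.map (algebraMap K Ω)).j = E₁.j := by
    rw [WeierstrassCurve.map_j, ← hj]
    refine mul_right_cancel₀ hΔ ?_
    rw [j_mul_Δ E₁]
    exact hc.symm
  obtain ⟨Cv, hCv⟩ := WeierstrassCurve.exists_variableChange_of_j_eq _ _ hjeq
  let T : Set Ω := {θ, (Cv.u : Ω), Cv.r, Cv.s, Cv.t}
  let L := IntermediateField.adjoin K T
  haveI : FiniteDimensional K L := IntermediateField.finiteDimensional_adjoin fun x _ =>
    Algebra.IsIntegral.isIntegral x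
  have hT : ∀ x ∈ T, x ∈ L := fun x hx => IntermediateField.subset_adjoin K T hx
  let θL : L := ⟨θ, hT θ (by simp [T])⟩
  let CL : WeierstrassCurve.VariableChange L :=
    ⟨Units.mk0 ⟨(Cv.u : Ω), hT _ (by simp [T])⟩ (fun h => Cv.u.ne_zero (congrArg Subtype.val h)),
      ⟨Cv.r, hT _ (by simp [T])⟩, ⟨Cv.s, hT _ (by simp [T])⟩, ⟨Cv.t, hT _ (by simp [T])⟩⟩
  have hCL : CL.map (algebraMap L Ω) = Cv := WeierstrassCurve.VariableChange.ext (Units.ext rfl) rfl rfl rfl
  letI : Algebra R L := ((algebraMap K L).comp (algebraMap R K)).toAlgebra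
  haveI : IsScalarTower R K L := IsScalarTower.of_algebraMap_eq fun _ => rfl
  obtain ⟨V, hV, hmem, hlt⟩ := E4O.exists_dvr_dominating_of_dimOne (T := R)
    (IsDiscreteValuationRing.not_isField R) K L
  let φ : R →+* V := (algebraMap R L).codRestrict V.toSubring hmem
  have hloc : IsLocalHom φ := ⟨fun a ha => by
    by_contra hna
    exact ne_of_lt (hlt a ((IsLocalRing.mem_maximalIdeal a).2 hna)) ((V.valuation_eq_one_iff (φ a)).1 ha)⟩
  have hcompL : ∀ r, (algebraMap R L r : Ω) = ι r := fun _ => rfl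
  have hroot : p.eval₂ (algebraMap R L) θL = 0 := by
    apply (algebraMap L Ω).injective
    rw [hom_eval₂, map_zero]
    exact hθ
  have hθV : θL ∈ V := by
    letI : Algebra V L := inferInstance
    have hint : IsIntegral V θL := ⟨p.map φ, hp.map φ, by
      rw [eval₂_map]; exact hroot⟩
    obtain ⟨y, hy⟩ := IsIntegrallyClosed.algebraMap_eq_of_integral (K := L) hint
    exact hy ▸ y.2
  let θV : V := ⟨θL, hθV⟩
  have hrootV : p.eval₂ φ θV = 0 := by
    apply Subtype.val_injective (p := fun x : L => x ∈ V)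
    show V.subtype (p.eval₂ φ θV) = 0
    rw [hom_eval₂]
    exact hroot
  let E₀ : WeierstrassCurve V := E.map (eval₂RingHom φ θV)
  have hunit : IsUnit E₀.Δ := by
    by_contra hnu
    have h := (hE (IsLocalRing.ResidueField V) ((IsLocalRing.residue V).comp φ) (IsLocalRing.residue V θV)
      (by rw [← hom_eval₂, hrootV, map_zero])).1
    apply h
    have heq : (eval₂RingHom ((IsLocalRing.residue V).comp φ) (IsLocalRing.residue V θV)) =
        (IsLocalRing.residue V).comp (eval₂RingHom φ θV) :=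
      Polynomial.ringHom_ext (fun a => by simp) (by simp)
    rw [heq, ← WeierstrassCurve.map_map, WeierstrassCurve.map_Δ]
    exact (IsLocalRing.residue_eq_zero_iff _).2 hnu
  refine ⟨L, inferInstance, inferInstance, inferInstance, V, inferInstance, inferInstance, hV,
    inferInstance, inferInstance, φ, hloc, fun r => rfl, ?_⟩
  refine hasGoodReduction_minimal (S := V) _ CL E₀ ?_ hunit
  apply WeierstrassCurve.map_injective (algebraMap L Ω).injective
  show (CL • W.map (algebraMap K L)).map (algebraMap L Ω) = (E₀.map (algebraMap V L)).map (algebraMap L Ω)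
  rw [← WeierstrassCurve.map_variableChange, hCL, WeierstrassCurve.map_map, WeierstrassCurve.map_map,
    ← IsScalarTower.algebraMap_eq, hCv]
  show E.map (eval₂RingHom ι θ) = (E.map (eval₂RingHom φ θV)).map _
  rw [WeierstrassCurve.map_map]
  exact congrArg E.map (Polynomial.ringHom_ext (fun a => by simp [ι]; rfl) (by simp; rfl))

theorem integral_of_good {L : Type u} [Field L] [Algebra K L] {RL : Type u}
    [CommRing RL] [IsDomain RL] [IsDiscreteValuationRing RL] [Algebra RL L]
    [IsFractionRing RL L] (φ : R →+* RL) (hloc : IsLocalHom φ)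
    (hφ : ∀ r : R, algebraMap K L (algebraMap R K r) = algebraMap RL L (φ r))
    (hgood : ((W.baseChange L).minimal RL).HasGoodReduction RL) : ∃ r : R, algebraMap R K r = W.j := by
  let C₁ := ((W.baseChange L).exists_isMinimal RL).choose
  let M := (W.baseChange L).minimal RL
  haveI : WeierstrassCurve.HasGoodReduction RL M := hgood
  let M₀ := M.integralModel RL
  have hu : IsUnit M₀.Δ := by
    have h := hgood.goodReduction
    rw [← WeierstrassCurve.integralModel_Δ_eq RL M, IsDedekindDomain.HeightOneSpectrum.valuation_of_algebraMap,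
      IsDedekindDomain.HeightOneSpectrum.intValuation_eq_one_iff] at h
    exact IsLocalRing.notMem_maximalIdeal.1 h
  obtain ⟨v, hv⟩ := hu
  have hjL : algebraMap K L W.j = algebraMap RL L (M₀.c₄ ^ 3 * ↑v⁻¹) := by
    refine mul_right_cancel₀ (b := M.Δ) ?_ ?_
    · rw [← WeierstrassCurve.integralModel_Δ_eq RL M]
      exact (((hv ▸ v.isUnit : IsUnit M₀.Δ)).map (algebraMap RL L)).ne_zero
    · conv_rhs => rw [← WeierstrassCurve.integralModel_Δ_eq RL M, ← map_mul]
      rw [show M.integralModel RL = M₀ from rfl, ← hv, mul_assoc, Units.inv_mul, mul_one, map_pow,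
        WeierstrassCurve.integralModel_c₄_eq RL M]
      show algebraMap K L W.j * (C₁ • W.map (algebraMap K L)).Δ = (C₁ • W.map (algebraMap K L)).c₄ ^ 3
      rw [WeierstrassCurve.variableChange_Δ, WeierstrassCurve.variableChange_c₄, WeierstrassCurve.map_Δ,
        WeierstrassCurve.map_c₄, mul_left_comm, ← map_mul, j_mul_Δ, map_pow]
      ring
  rcases ValuationRing.isInteger_or_isInteger R W.j with ⟨r, hr⟩ | ⟨r, hr⟩
  · exact ⟨r, hr⟩
  · by_cases h0 : W.j = 0
    · exact ⟨0, by rw [h0, map_zero]⟩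
    have hr1 : φ r * (M₀.c₄ ^ 3 * ↑v⁻¹) = 1 := by
      apply IsFractionRing.injective RL L
      rw [map_mul, map_one, ← hjL, ← hφ, hr, ← map_mul, inv_mul_cancel₀ h0, map_one]
    obtain ⟨s, hs⟩ := hloc.map_nonunit r (IsUnit.of_mul_eq_one _ hr1)
    refine ⟨↑s⁻¹, ?_⟩
    have h1 : algebraMap R K ↑s⁻¹ * W.j⁻¹ = 1 := by
      rw [← hr, ← hs, ← map_mul, Units.inv_mul, map_one]
    exact mul_inv_eq_one₀ h0 |>.1 h1

end Groth.Agent.PotGood31
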